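import Groth.Agent.MTBridge.ClopenMain
import Groth.Agent.MTBridge.ChartsAll
import Groth.Agent.MTBridge.EssFree
import Mathlib

/-!
# Faithfully flat locus of a homomorphism out of a group of multiplicative type of any type
-/

set_option autoImplicit false
set_option linter.style.haveILetI false
set_option backward.isDefEq.respectTransparency false
set_option maxHeartbeats 1000000
set_option synthInstance.maxHeartbeats 400000

universe u

open CategoryTheory Limits MonoidalCategory CartesianMonoidalCategory AlgebraicGeometry TensorProduct Opposite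
open TopologicalSpace WithConv
open scoped CategoryTheory.Obj

noncomputable section

namespace Groth.Agent.MTBridge

open Groth.Agent.MultT

/-- An affine chart of a homomorphism of groups of multiplicative type of finite type. -/
theorem exists_chart' {S : Scheme.{u}} {G H : Over S} [GrpObj G] [GrpObj H] (hG : TwC.Locally S TwC.Topology.fpqc (fun S' f => ∃ (M : Type) (_ : AddCommGroup M), Nonempty (Grp.mk (Red.bc f G) ≅ Grp.mk (Red.DS S' M))))
    (hH : SGA3x.IsMultTypeFT H) (u : G ⟶ H) [IsMonHom u] {R : Type u} [CommRing R]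
    (j : Spec (CommRingCat.of R) ⟶ S) :
    ∃ (A B : Type u) (_ : CommRing A) (_ : HopfAlgebra R A) (_ : CommRing B) (_ : HopfAlgebra R B)
      (f : B →ₐc[R] A) (qA : Spec (CommRingCat.of A) ⟶ G.left) (qB : Spec (CommRingCat.of B) ⟶ H.left),
      SGA3b.IsMultType R A ∧ SGA3b.IsMultType R B ∧ Algebra.FiniteType R B ∧
      IsPullback qA (Spec.map (CommRingCat.ofHom (algebraMap R A))) G.hom j ∧
      IsPullback qB (Spec.map (CommRingCat.ofHom (algebraMap R B))) H.hom j ∧
      Spec.map (CommRingCat.ofHom (f : B →ₐ[R] A).toRingHom) ≫ qB = qA ≫ u.left := by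
  obtain ⟨A, _, _, hA, ⟨eA⟩⟩ := exists_hopf_of_locally (Red.bc j G) (locally_bc G j hG)
  obtain ⟨B, _, _, hB, hBf, ⟨eB⟩⟩ := exists_hopf (Red.bc j H) (isMultTypeFT_bc H j hH)
  let iA : (specGrp R A).X ≅ Red.bc j G := ((Grp.forget _).mapIso eA).symm
  let iB : (specGrp R B).X ≅ Red.bc j H := ((Grp.forget _).mapIso eB).symm
  obtain ⟨f, hf⟩ := exists_bialgHom (eA.inv.hom.hom ≫ (Over.pullback j).map u ≫ eB.hom.hom.hom)
  have hpb : ∀ {X : Over S} {C : Type u} [CommRing C] [HopfAlgebra R C] (i : (specGrp R C).X ≅ Red.bc j X),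
      IsPullback (i.hom.left ≫ pullback.fst X.hom j) (Spec.map (CommRingCat.ofHom (algebraMap R C))) X.hom j := by
    intro X C _ _ i
    let il : (specGrp R C).X.left ≅ pullback X.hom j := (Over.forget _).mapIso i
    refine (IsPullback.of_hasPullback X.hom j).of_iso il.symm (Iso.refl _) (Iso.refl _) (Iso.refl _) ?_ ?_
      (by simp) (by simp)
    · simp [il]
    · simp only [Iso.refl_hom, Category.comp_id, Iso.symm_hom]
      rw [Iso.eq_inv_comp]
      exact Over.w i.hom
  refine ⟨A, B, inferInstance, inferInstance, inferInstance, inferInstance, f,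
    iA.hom.left ≫ pullback.fst G.hom j, iB.hom.left ≫ pullback.fst H.hom j, hA, hB, hBf, hpb iA, hpb iB, ?_⟩
  rw [← hf]
  have he : eB.hom.hom.hom.left ≫ eB.inv.hom.hom.left = 𝟙 _ :=
    congrArg (fun x => Over.Hom.left x) ((Grp.forget _).mapIso eB).hom_inv_id
  show (eA.inv.hom.hom.left ≫ ((Over.pullback j).map u).left ≫ eB.hom.hom.hom.left) ≫
    eB.inv.hom.hom.left ≫ pullback.fst H.hom j = (eA.inv.hom.hom.left ≫ pullback.fst G.hom j) ≫ u.left
  simp only [Category.assoc]
  rw [reassoc_of% he, map_left_fst]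

set_option maxHeartbeats 1600000 in
theorem exists_clopen' {S : Scheme.{u}} {G H : Over S} [GrpObj G] [GrpObj H] (hG : TwC.Locally S TwC.Topology.fpqc (fun S' f => ∃ (M : Type) (_ : AddCommGroup M), Nonempty (Grp.mk (Red.bc f G) ≅ Grp.mk (Red.DS S' M))))
    (hH : SGA3x.IsMultTypeFT H) (u : G ⟶ H) [IsMonHom u] (P Q : MorphismProperty Scheme.{u})
    [IsZariskiLocalAtTarget P] [Q.RespectsIso]
    (halg : ∀ (R A B : Type u) [CommRing R] [CommRing A] [HopfAlgebra R A] [CommRing B] [HopfAlgebra R B]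
      (f : B →ₐc[R] A), SGA3b.IsMultType R A → SGA3b.IsMultType R B → Algebra.FiniteType R B →
      IsClopen {p : PrimeSpectrum R | Q (Spec.map (CommRingCat.ofHom (idT f p.asIdeal.ResidueField).toRingHom))} ∧
      ((∀ p : PrimeSpectrum R, Q (Spec.map (CommRingCat.ofHom (idT f p.asIdeal.ResidueField).toRingHom))) →
        P (Spec.map (CommRingCat.ofHom (f : B →ₐ[R] A).toRingHom)))) :
    ∃ U : S.Opens, IsClosed (U : Set S) ∧
      (∀ s : S, s ∈ U ↔ Q ((Over.pullback (S.fromSpecResidueField s)).map u).left) ∧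
      P ((Over.pullback U.ι).map u).left := by
  let L : Set S := {s | Q ((Over.pullback (S.fromSpecResidueField s)).map u).left}
  have hloc : ∀ (V : S.Opens) (hV : IsAffineOpen V), IsClopen (hV.fromSpec ⁻¹' L) := by
    intro V hV
    obtain ⟨A, B, _, _, _, _, f, qA, qB, hA, hB, hBf, sA, sB, hk⟩ := exists_chart' hG hH u hV.fromSpec
    have hset : hV.fromSpec ⁻¹' L = {p : PrimeSpectrum Γ(S, V) |
        Q (Spec.map (CommRingCat.ofHom (idT f p.asIdeal.ResidueField).toRingHom))} :=
      Set.ext fun p => fibre_prop_iff u f hV.fromSpec Q sA sB hk p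
    rw [hset]
    exact (halg _ A B f hA hB hBf).1
  have hopen : ∀ T : Set S, (∀ (V : S.Opens) (hV : IsAffineOpen V), IsOpen (hV.fromSpec ⁻¹' T)) → IsOpen T := by
    intro T hT
    rw [isOpen_iff_forall_mem_open]
    intro s hs
    obtain ⟨_, ⟨V, hV, rfl⟩, hsV, -⟩ :=
      S.isBasis_affineOpens.exists_subset_of_mem_open (Set.mem_univ s) isOpen_univ
    refine ⟨hV.fromSpec '' (hV.fromSpec ⁻¹' T), Set.image_preimage_subset _ _,
      hV.fromSpec.isOpenEmbedding.isOpenMap _ (hT V hV), ?_⟩
    obtain ⟨z, hz⟩ := hV.range_fromSpec.ge hsV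
    exact ⟨z, show hV.fromSpec z ∈ T from hz ▸ hs, hz⟩
  let U : S.Opens := ⟨L, hopen L fun V hV => (hloc V hV).isOpen⟩
  refine ⟨U, ⟨hopen Lᶜ fun V hV => (hloc V hV).compl.isOpen⟩, fun s => Iff.rfl, ?_⟩
  have hU : IsPullback ((Over.pullback U.ι).map u).left (pullback.fst G.hom U.ι) (pullback.fst H.hom U.ι) u.left :=
    isPullback_of_squares (IsPullback.of_hasPullback _ _) (IsPullback.of_hasPullback _ _) u _
      (map_left_fst _ u) (map_left_snd _ u)
  rw [← hU.flip.isoPullback_hom_snd, MorphismProperty.cancel_left_of_respectsIso P]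
  let ι := {V : S.Opens // IsAffineOpen V ∧ V ≤ U}
  choose A B iA hA' iB hB' f qA qB hA hB hBf sA sB hk using fun V : ι => exists_chart' hG hH u V.2.1.fromSpec
  let c : ∀ V : ι, Spec (CommRingCat.of (B V)) ⟶ pullback H.hom U.ι := fun V =>
    pullback.lift (qB V) (Spec.map (CommRingCat.ofHom (algebraMap _ (B V))) ≫
      IsOpenImmersion.lift U.ι V.2.1.fromSpec (by
        rw [V.2.1.range_fromSpec, Scheme.Opens.range_ι]
        exact V.2.2))
      (by rw [(sB V).w, Category.assoc, IsOpenImmersion.lift_fac])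
  haveI : ∀ V, IsOpenImmersion (c V) := fun V => by
    haveI : IsOpenImmersion (qB V) := by
      rw [← (sB V).isoPullback_hom_fst]
      infer_instance
    haveI : IsOpenImmersion (c V ≫ pullback.fst H.hom U.ι) := by
      simp only [c, pullback.lift_fst]
      infer_instance
    exact IsOpenImmersion.of_comp _ (pullback.fst H.hom U.ι)
  refine of_open_charts P u.left (pullback.fst H.hom U.ι) c (fun y => ?_) fun V => ?_
  · obtain ⟨_, ⟨V, hV, rfl⟩, hsV, hVU⟩ := S.isBasis_affineOpens.exists_subset_of_mem_open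
      (show H.hom (pullback.fst H.hom U.ι y) ∈ (U : Set S) from by
        rw [← Scheme.Hom.comp_apply, pullback.condition, Scheme.Hom.comp_apply]
        exact (pullback.snd H.hom U.ι y).2) U.isOpen
    obtain ⟨z, hz⟩ := hV.range_fromSpec.ge hsV
    let V' : ι := ⟨V, hV, hVU⟩
    obtain ⟨b, hb, -⟩ := Scheme.Pullback.exists_preimage_pullback (f := H.hom) (g := hV.fromSpec)
      (pullback.fst H.hom U.ι y) z hz.symm
    refine ⟨V', (sB V').isoPullback.inv b, ?_⟩
    apply (pullback.fst H.hom U.ι).isOpenEmbedding.injective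
    rw [← Scheme.Hom.comp_apply, ← Scheme.Hom.comp_apply, show c V' ≫ pullback.fst H.hom U.ι = qB V' from
      pullback.lift_fst _ _ _, (sB V').isoPullback_inv_fst]
    exact hb
  · have hsq := isPullback_of_squares (sA V) (sB V) u _ (hk V) (by
      rw [← Spec.map_comp, ← CommRingCat.ofHom_comp]
      congr 2
      exact AlgHom.comp_algebraMap (f V : B V →ₐ[Γ(S, V.1)] A V))
    have hcomp : c V ≫ pullback.fst H.hom U.ι = qB V := pullback.lift_fst _ _ _
    rw [hcomp, ← hsq.flip.isoPullback_inv_snd, MorphismProperty.cancel_left_of_respectsIso P]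
    refine (halg _ _ _ (f V) (hA V) (hB V) (hBf V)).2 fun p => ?_
    refine (fibre_prop_iff u (f V) V.2.1.fromSpec Q (sA V) (sB V) (hk V) p).1 ?_
    show V.2.1.fromSpec p ∈ U
    exact V.2.2 (V.2.1.range_fromSpec.le ⟨p, rfl⟩)

theorem exists_clopen_ff' {S : Scheme.{u}} {G H : Over S} [GrpObj G] [GrpObj H] (hG : TwC.Locally S TwC.Topology.fpqc (fun S' f => ∃ (M : Type) (_ : AddCommGroup M), Nonempty (Grp.mk (Red.bc f G) ≅ Grp.mk (Red.DS S' M))))
    (hH : SGA3x.IsMultTypeFT H) (u : G ⟶ H) [IsMonHom u] :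
    ∃ U : S.Opens, IsClosed (U : Set S) ∧
      (∀ s : S, s ∈ U ↔ (Flat ((Over.pullback (S.fromSpecResidueField s)).map u).left ∧
        Surjective ((Over.pullback (S.fromSpecResidueField s)).map u).left)) ∧
      (Flat ((Over.pullback U.ι).map u).left ∧ Surjective ((Over.pullback U.ι).map u).left) :=
  exists_clopen' hG hH u (@Flat ⊓ @Surjective) (@Flat ⊓ @Surjective)
    fun R A B _ _ _ _ _ f hA hB hBf => by
      haveI := hBf
      obtain ⟨-, h2, -, h4⟩ := exists_loci f hA hB
      refine ⟨by simpa only [flat_surjective_SpecMap_iff] using h2, fun h => ?_⟩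
      rw [flat_surjective_SpecMap_iff]
      exact h4 fun p => (flat_surjective_SpecMap_iff _).1 (h p)

end Groth.Agent.MTBridge
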